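import Mathlib
import Cfsg.Prelude.Def_Transfer

/-!
# S4931 piece (BURN) (helper78): Burnside's transfer theorem inside a subgroup `R ⊇ P`
-/

set_option autoImplicit false

namespace Cfsg.Agent.Helper78.NC

open Cfsg

universe u

section G

variable {G : Type u} [Group G] [Fintype G]

/-- (BURN) Burnside's transfer theorem inside the subgroup `R`. -/
theorem hasNormalPComplement_of_abelian_selfNormalizing (p : ℕ) [Fact p.Prime] (R : Subgroup G)
    (P : Sylow p G) (hPR : (P : Subgroup G) ≤ R)
    (hab : ∀ a ∈ (P : Subgroup G), ∀ b ∈ (P : Subgroup G), a * b = b * a)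
    (hself : ∀ r ∈ R, r ∈ Subgroup.normalizer ((P : Subgroup G) : Set G) → r ∈ (P : Subgroup G)) :
    HasNormalPComplement p ↥R := by
  classical
  set PR : Sylow p ↥R := P.subtype hPR with hPRdef
  have hcoe : (PR : Subgroup ↥R) = (P : Subgroup G).subgroupOf R := Sylow.coe_subtype _ _
  have hmemPR : ∀ x : ↥R, x ∈ (PR : Subgroup ↥R) ↔ (x : G) ∈ (P : Subgroup G) := by
    intro x
    rw [hcoe, Subgroup.mem_subgroupOf]
  have hP : Subgroup.normalizer ((PR : Subgroup ↥R) : Set ↥R) ≤
      Subgroup.centralizer ((PR : Subgroup ↥R) : Set ↥R) := by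
    intro x hx
    rw [Subgroup.mem_normalizer_iff] at hx
    have hxn : (x : G) ∈ Subgroup.normalizer ((P : Subgroup G) : Set G) := by
      rw [Subgroup.mem_normalizer_iff]
      intro g
      constructor
      · intro hg
        have h1 := (hx ⟨g, hPR hg⟩).1 ((hmemPR _).2 hg)
        have h2 := (hmemPR _).1 h1
        simpa using h2
      · intro hg
        have hgR : g ∈ R := by
          have h1 : (x : G) * g * (x : G)⁻¹ ∈ R := hPR hg
          have h2 : g = (x : G)⁻¹ * ((x : G) * g * (x : G)⁻¹) * (x : G) := by group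
          rw [h2]
          exact R.mul_mem (R.mul_mem (R.inv_mem x.2) h1) x.2
        have h1 : x * ⟨g, hgR⟩ * x⁻¹ ∈ (PR : Subgroup ↥R) := by
          rw [hmemPR]
          simpa using hg
        have h2 := (hx ⟨g, hgR⟩).2 h1
        exact (hmemPR _).1 h2
    have hxP : (x : G) ∈ (P : Subgroup G) := hself _ x.2 hxn
    rw [Subgroup.mem_centralizer_iff]
    intro y hy
    have hyP : (y : G) ∈ (P : Subgroup G) := (hmemPR y).1 hy
    apply Subtype.ext
    rw [Subgroup.coe_mul, Subgroup.coe_mul]
    exact hab _ hyP _ hxP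
  exact ⟨PR, (MonoidHom.transferSylow PR hP).ker, MonoidHom.normal_ker _,
    MonoidHom.ker_transferSylow_isComplement' PR hP⟩

end G

end Cfsg.Agent.Helper78.NC
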