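import Cfsg.Agent.Helper78.NC.Pieces

/-!
# S4931 (helper78): assembly
-/

set_option autoImplicit false

namespace Cfsg.Agent.Helper78.NC

open Cfsg
open scoped ComplexConjugate Pointwise

universe u

section G

variable {G : Type u} [Group G] [Fintype G]

/-- conjugation action of a subgroup on a normal subgroup. -/
@[reducible] def conjAction (K : Subgroup G) [hK : K.Normal] (U : Subgroup G) : MulAction ↥U ↥K where
  smul u k := ⟨(u : G) * k * (u : G)⁻¹, hK.conj_mem k k.2 u⟩
  one_smul k := by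
    apply Subtype.ext
    show ((1 : ↥U) : G) * k * ((1 : ↥U) : G)⁻¹ = k
    simp
  mul_smul u v k := by
    apply Subtype.ext
    show ((u * v : ↥U) : G) * k * ((u * v : ↥U) : G)⁻¹ = (u : G) * ((v : G) * k * (v : G)⁻¹) * (u : G)⁻¹
    rw [Subgroup.coe_mul]
    group

/-- (LEM'') the faithful case. -/
theorem comm_of_abelian_selfNormalizing (p : ℕ) [Fact p.Prime] (R : Subgroup G) [R.Normal]
    (P : Sylow p G) (hPR : (P : Subgroup G) ≤ R)
    (hab : ∀ a ∈ (P : Subgroup G), ∀ b ∈ (P : Subgroup G), a * b = b * a)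
    (hself : ∀ r ∈ R, r ∈ Subgroup.normalizer ((P : Subgroup G) : Set G) → r ∈ (P : Subgroup G))
    (χ : IrrCharacter G) (hdeg : ¬ p ∣ charDegree (χ : G → ℂ))
    (hfaith : ∀ r ∈ R, (χ : G → ℂ) r = (χ : G → ℂ) 1 → r = 1) :
    ∀ a ∈ R, ∀ b ∈ R, a * b = b * a := by
  classical
  obtain ⟨K, hKn, hKR, hKP, hfac⟩ := exists_normal_of_hasNormalPComplement p R P hPR
    (hasNormalPComplement_of_abelian_selfNormalizing p R P hPR hab hself)
  haveI := hKn
  letI : MulAction ↥(P : Subgroup G) ↥K := conjAction K (P : Subgroup G)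
  have hsmul : ∀ (u : ↥(P : Subgroup G)) (k : ↥K),
      ((u • k : ↥K) : G) = (u : G) * k * (u : G)⁻¹ := fun _ _ => rfl
  have hχc : IsCharacter G (χ : G → ℂ) := Helper80.IsIrrCharacter.isCharacter χ.2
  have hsum : ∑ k : ↥K, (χ : G → ℂ) (k : G) ≠ 0 := by
    refine sum_ne_zero_of_isPGroup_smul (p := p) (U := ↥(P : Subgroup G)) P.isPGroup'
      (fun k : ↥K => (χ : G → ℂ) (k : G)) ?_ ?_ 1 ?_ ?_ (charDegree (χ : G → ℂ)) ?_ hdeg
    · intro u k
      show (χ : G → ℂ) ((u • k : ↥K) : G) = _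
      rw [hsmul]
      exact Helper80.IsCharacter.conj_mem hχc _ _
    · intro k
      exact Helper80.IsCharacter.isIntegral hχc _
    · intro u
      apply Subtype.ext
      rw [hsmul]
      simp
    · intro k hk
      have hcomm : ∀ u ∈ (P : Subgroup G), u * (k : G) * u⁻¹ = (k : G) := by
        intro u hu
        have := congrArg Subtype.val (hk ⟨u, hu⟩)
        rwa [hsmul] at this
      have hkn : (k : G) ∈ Subgroup.normalizer ((P : Subgroup G) : Set G) := by
        rw [Subgroup.mem_normalizer_iff]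
        intro h
        have hcomm' : ∀ u ∈ (P : Subgroup G), (k : G) * u * (k : G)⁻¹ = u := by
          intro u hu
          have h1 := hcomm u hu
          have h2 : u * (k : G) = (k : G) * u := by
            calc u * (k : G) = u * (k : G) * u⁻¹ * u := by group
              _ = (k : G) * u := by rw [h1]
          rw [← h2]
          group
        constructor
        · intro hh
          rw [hcomm' h hh]
          exact hh
        · intro hh
          have h3 := hcomm' _ hh
          have h4 : (k : G) * ((k : G) * h * (k : G)⁻¹) * (k : G)⁻¹ = (k : G) * h * (k : G)⁻¹ := h3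
          have h5 : (k : G) * h * (k : G)⁻¹ = h := by
            have := congrArg (fun z => (k : G)⁻¹ * z * (k : G)) h4
            simpa [mul_assoc] using this
          rw [← h5]
          exact hh
      have hkP : (k : G) ∈ (P : Subgroup G) := hself _ (hKR k.2) hkn
      have hk1 : (k : G) ∈ K ⊓ (P : Subgroup G) := ⟨k.2, hkP⟩
      rw [hKP, Subgroup.mem_bot] at hk1
      exact Subtype.ext hk1
    · show (χ : G → ℂ) ((1 : ↥K) : G) = _
      rw [Subgroup.coe_one]
      exact (Helper80.IsCharacter.charDegree_cast hχc).symm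
  have hker := apply_eq_of_sum_ne_zero K χ hsum
  have hK1 : ∀ k ∈ K, k = 1 := fun k hk => hfaith k (hKR hk) (hker k hk)
  intro a ha b hb
  obtain ⟨k, hk, u, hu, rfl⟩ := hfac a ha
  obtain ⟨k', hk', u', hu', rfl⟩ := hfac b hb
  rw [hK1 k hk, hK1 k' hk', one_mul, one_mul]
  exact hab u hu u' hu'

/-- (LEM') the key lemma: a `p'`-degree irreducible character of `G` with `P'` in its kernel has
`R'` in its kernel, when `P` is a self-normalizing Sylow subgroup of the normal subgroup `R`. -/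
theorem commutator_mem_ker_of_selfNormalizing (p : ℕ) [Fact p.Prime] (R : Subgroup G) [hRn : R.Normal]
    (P : Sylow p G) (hPR : (P : Subgroup G) ≤ R)
    (hself : ∀ r ∈ R, r ∈ Subgroup.normalizer ((P : Subgroup G) : Set G) → r ∈ (P : Subgroup G))
    (χ : IrrCharacter G) (hdeg : ¬ p ∣ charDegree (χ : G → ℂ))
    (hker : ∀ a ∈ (P : Subgroup G), ∀ b ∈ (P : Subgroup G),
      (χ : G → ℂ) (a * b * a⁻¹ * b⁻¹) = (χ : G → ℂ) 1) :
    ∀ a ∈ R, ∀ b ∈ R, (χ : G → ℂ) (a * b * a⁻¹ * b⁻¹) = (χ : G → ℂ) 1 := by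
  classical
  have hχc : IsCharacter G (χ : G → ℂ) := Helper80.IsIrrCharacter.isCharacter χ.2
  set Kχ : Subgroup G := Helper80.kerChar (χ : G → ℂ) hχc with hKχ
  have hmemK : ∀ g : G, g ∈ Kχ ↔ (χ : G → ℂ) g = (χ : G → ℂ) 1 := fun g => Helper80.mem_kerChar hχc g
  set M : Subgroup G := Kχ ⊓ R with hM
  haveI hMn : M.Normal := Subgroup.normal_inf_normal Kχ R
  have hMR : M ≤ R := inf_le_right
  letI : Fintype (G ⧸ M) := Fintype.ofFinite _
  have hsurj : Function.Surjective (QuotientGroup.mk' M) := QuotientGroup.mk'_surjective M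
  obtain ⟨ψ, hψirr, hψ⟩ := Helper80.IsIrrCharacter.exists_descend χ.2 (QuotientGroup.mk' M) hsurj
    (fun g hg => by
      have h1 : g ∈ M := by
        rw [← QuotientGroup.ker_mk' M]
        exact hg
      exact (hmemK g).1 h1.1)
  have hψ1 : ψ 1 = (χ : G → ℂ) 1 := by
    have := hψ 1
    rw [map_one] at this
    exact this.symm
  -- commutators of `P` lie in `M`
  have hPM : ∀ a ∈ (P : Subgroup G), ∀ b ∈ (P : Subgroup G), a * b * a⁻¹ * b⁻¹ ∈ M := by
    intro a ha b hb
    refine ⟨(hmemK _).2 (hker a ha b hb), ?_⟩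
    exact R.mul_mem (R.mul_mem (R.mul_mem (hPR ha) (hPR hb)) (R.inv_mem (hPR ha)))
      (R.inv_mem (hPR hb))
  set Rb : Subgroup (G ⧸ M) := R.map (QuotientGroup.mk' M) with hRb
  haveI hRbn : Rb.Normal := Subgroup.Normal.map hRn _ hsurj
  set Pb : Sylow p (G ⧸ M) := P.mapSurjective hsurj with hPb
  have hPbcoe : (Pb : Subgroup (G ⧸ M)) = (P : Subgroup G).map (QuotientGroup.mk' M) :=
    Sylow.coe_mapSurjective hsurj P
  have hPRb : (Pb : Subgroup (G ⧸ M)) ≤ Rb := by
    rw [hPbcoe]
    exact Subgroup.map_mono hPR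
  have habb : ∀ a ∈ (Pb : Subgroup (G ⧸ M)), ∀ b ∈ (Pb : Subgroup (G ⧸ M)), a * b = b * a := by
    intro a ha b hb
    rw [hPbcoe] at ha hb
    obtain ⟨u, hu, rfl⟩ := ha
    obtain ⟨v, hv, rfl⟩ := hb
    rw [← map_mul, ← map_mul]
    show (QuotientGroup.mk (u * v) : G ⧸ M) = QuotientGroup.mk (v * u)
    rw [QuotientGroup.eq]
    have h1 := hPM v⁻¹ ((P : Subgroup G).inv_mem hv) u⁻¹ ((P : Subgroup G).inv_mem hu)
    have h2 : (u * v)⁻¹ * (v * u) = v⁻¹ * u⁻¹ * v⁻¹⁻¹ * u⁻¹⁻¹ := by group
    rw [h2]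
    exact h1
  have hselfb : ∀ r ∈ Rb, r ∈ Subgroup.normalizer ((Pb : Subgroup (G ⧸ M)) : Set (G ⧸ M)) →
      r ∈ (Pb : Subgroup (G ⧸ M)) := by
    intro rb hrb hn
    obtain ⟨r, hr, rfl⟩ := hrb
    rw [hPbcoe] at hn ⊢
    have h1 := mem_sup_of_mk_mem_normalizer p R M hMR P hPR hself r hr hn
    have h2 : r ∈ ((P : Subgroup G) : Set G) * (M : Set G) := by
      rw [← Subgroup.mul_normal]
      exact h1
    obtain ⟨u, hu, m, hm, rfl⟩ := Set.mem_mul.1 h2
    refine ⟨u, hu, ?_⟩
    rw [map_mul]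
    have : QuotientGroup.mk' M m = 1 := by
      show (QuotientGroup.mk m : G ⧸ M) = 1
      exact (QuotientGroup.eq_one_iff m).2 hm
    rw [this, mul_one]
  have hdegb : ¬ p ∣ charDegree ψ := by
    have : charDegree ψ = charDegree (χ : G → ℂ) := by
      unfold charDegree
      rw [hψ1]
    rw [this]
    exact hdeg
  have hfaithb : ∀ r ∈ Rb, ψ r = ψ 1 → r = 1 := by
    intro rb hrb h
    obtain ⟨r, hr, rfl⟩ := hrb
    rw [← hψ r, hψ1] at h
    have h1 : r ∈ M := ⟨(hmemK r).2 h, hr⟩
    show (QuotientGroup.mk r : G ⧸ M) = 1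
    exact (QuotientGroup.eq_one_iff r).2 h1
  have hcomm := comm_of_abelian_selfNormalizing p Rb Pb hPRb habb hselfb ⟨ψ, hψirr⟩ hdegb hfaithb
  intro a ha b hb
  have h1 := hcomm (QuotientGroup.mk' M a) ⟨a, ha, rfl⟩ (QuotientGroup.mk' M b) ⟨b, hb, rfl⟩
  have h2 : (QuotientGroup.mk' M) (a * b * a⁻¹ * b⁻¹) = 1 := by
    rw [map_mul, map_mul, map_mul, map_inv, map_inv, h1]
    group
  have h3 : a * b * a⁻¹ * b⁻¹ ∈ M := by
    rw [← QuotientGroup.ker_mk' M]
    exact h2
  exact (hmemK _).1 h3.1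

/-- the commutator subgroup of `P`, inside the normalizer of `P`, is normal there. -/
theorem commutator_subgroupOf_normalizer_normal (P : Subgroup G) :
    ((⁅P, P⁆ : Subgroup G).subgroupOf (Subgroup.normalizer (P : Set G))).Normal := by
  constructor
  intro x hx n
  rw [Subgroup.mem_subgroupOf] at hx ⊢
  have hn : (n : G) ∈ Subgroup.normalizer (P : Set G) := n.2
  have h1 : P.map (MulAut.conj (n : G)).toMonoidHom = P :=
    Subgroup.mem_normalizer_iff_map_conj_eq.1 hn
  have h2 : (⁅P, P⁆ : Subgroup G).map (MulAut.conj (n : G)).toMonoidHom = ⁅P, P⁆ := by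
    rw [Subgroup.map_commutator, h1]
  have h3 : (MulAut.conj (n : G)).toMonoidHom (x : G) ∈
      (⁅P, P⁆ : Subgroup G).map (MulAut.conj (n : G)).toMonoidHom := Subgroup.mem_map_of_mem _ hx
  rw [h2] at h3
  simpa using h3

/-- **Main theorem** (`Fintype` form). -/
theorem main (p : ℕ) [hp : Fact p.Prime] (P : Sylow p G) :
    (∀ θ : IrrCharacter ↥(Subgroup.normalizer ((P : Subgroup G) : Set G)),
        ¬ p ∣ charDegree (θ : ↥(Subgroup.normalizer ((P : Subgroup G) : Set G)) → ℂ) →
        ∃ χ : IrrCharacter G, ∀ x : ↥(Subgroup.normalizer ((P : Subgroup G) : Set G)),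
          (χ : G → ℂ) x = (θ : ↥(Subgroup.normalizer ((P : Subgroup G) : Set G)) → ℂ) x) ↔
      ∃ K : Subgroup G, K.Normal ∧ K ⊔ Subgroup.normalizer ((P : Subgroup G) : Set G) = ⊤ ∧
        K ⊓ Subgroup.normalizer ((P : Subgroup G) : Set G) = ⊥ := by
  classical
  constructor
  · intro H
    set N : Subgroup G := Subgroup.normalizer ((P : Subgroup G) : Set G) with hN
    letI : Fintype ↥N := Fintype.ofFinite _
    set R : Subgroup G := Subgroup.normalClosure ((P : Subgroup G) : Set G) with hR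
    have hPR : (P : Subgroup G) ≤ R := Subgroup.le_normalClosure
    have hPN : (P : Subgroup G) ≤ N := Subgroup.le_normalizer
    -- the index of `P` in `N` is prime to `p`
    have hidx : ¬ p ∣ ((P : Subgroup G).subgroupOf N).index := by
      intro hdvd
      exact P.not_dvd_index (hdvd.trans (Subgroup.relIndex_dvd_index_of_le hPN))
    -- a character of `G` extending a character of `N` trivial on `Q ≥ ...`
    -- Step 1
    have hself : ∀ r ∈ R, r ∈ N → r ∈ (P : Subgroup G) := by
      intro r hrR hrN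
      by_contra hrP
      obtain ⟨θ, hdeg, htriv, hne⟩ := exists_irr_sep p ((P : Subgroup G).subgroupOf N)
        ((P : Subgroup G).subgroupOf N) le_rfl
        (fun a ha b hb => Subgroup.mul_mem _ (Subgroup.mul_mem _ (Subgroup.mul_mem _ ha hb)
          (Subgroup.inv_mem _ ha)) (Subgroup.inv_mem _ hb)) hidx ⟨r, hrN⟩
        (by rw [Subgroup.mem_subgroupOf]; exact hrP)
      obtain ⟨χ, hχ⟩ := H θ hdeg
      have hχc : IsCharacter G (χ : G → ℂ) := Helper80.IsIrrCharacter.isCharacter χ.2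
      have hχ1 : (χ : G → ℂ) 1 = (θ : ↥N → ℂ) 1 := hχ 1
      have hPK : ((P : Subgroup G) : Set G) ⊆ Helper80.kerChar (χ : G → ℂ) hχc := by
        intro u hu
        rw [SetLike.mem_coe, Helper80.mem_kerChar hχc]
        have h1 := hχ ⟨u, hPN hu⟩
        rw [htriv ⟨u, hPN hu⟩ (by rw [Subgroup.mem_subgroupOf]; exact hu)] at h1
        rw [hχ1]
        exact h1
      have hRK : R ≤ Helper80.kerChar (χ : G → ℂ) hχc := Subgroup.normalClosure_le_normal hPK
      have h2 := (Helper80.mem_kerChar hχc r).1 (hRK hrR)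
      apply hne
      rw [← hχ ⟨r, hrN⟩, ← hχ1]
      exact h2
    -- Step 2
    have hfoc : ∀ u ∈ (P : Subgroup G), u ∈ ⁅R, R⁆ →
        u ∈ ⁅(P : Subgroup G), (P : Subgroup G)⁆ := by
      intro u huP huR
      by_contra huP'
      haveI := commutator_subgroupOf_normalizer_normal (P : Subgroup G)
      have hcomP : (⁅(P : Subgroup G), (P : Subgroup G)⁆ : Subgroup G) ≤ (P : Subgroup G) :=
        Subgroup.commutator_le.2 fun a ha b hb => by
          rw [commutatorElement_def]
          exact Subgroup.mul_mem _ (Subgroup.mul_mem _ (Subgroup.mul_mem _ ha hb)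
            (Subgroup.inv_mem _ ha)) (Subgroup.inv_mem _ hb)
      obtain ⟨θ, hdeg, htriv, hne⟩ := exists_irr_sep p
        ((⁅(P : Subgroup G), (P : Subgroup G)⁆ : Subgroup G).subgroupOf N)
        ((P : Subgroup G).subgroupOf N)
        (fun x hx => by
          rw [Subgroup.mem_subgroupOf] at hx ⊢
          exact hcomP hx)
        (fun a ha b hb => by
          rw [Subgroup.mem_subgroupOf] at ha hb ⊢
          have := Subgroup.commutator_mem_commutator ha hb
          rw [commutatorElement_def] at this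
          simpa using this) hidx ⟨u, hPN huP⟩
        (by rw [Subgroup.mem_subgroupOf]; exact huP')
      obtain ⟨χ, hχ⟩ := H θ hdeg
      have hχc : IsCharacter G (χ : G → ℂ) := Helper80.IsIrrCharacter.isCharacter χ.2
      have hχ1 : (χ : G → ℂ) 1 = (θ : ↥N → ℂ) 1 := hχ 1
      have hdegχ : ¬ p ∣ charDegree (χ : G → ℂ) := by
        have : charDegree (χ : G → ℂ) = charDegree (θ : ↥N → ℂ) := by
          unfold charDegree
          rw [hχ1]
        rw [this]
        exact hdeg
      have hker : ∀ a ∈ (P : Subgroup G), ∀ b ∈ (P : Subgroup G),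
          (χ : G → ℂ) (a * b * a⁻¹ * b⁻¹) = (χ : G → ℂ) 1 := by
        intro a ha b hb
        have hmem : a * b * a⁻¹ * b⁻¹ ∈ (⁅(P : Subgroup G), (P : Subgroup G)⁆ : Subgroup G) := by
          have := Subgroup.commutator_mem_commutator ha hb
          rwa [commutatorElement_def] at this
        have h1 := hχ ⟨a * b * a⁻¹ * b⁻¹, hPN (hcomP hmem)⟩
        rw [htriv _ (by rw [Subgroup.mem_subgroupOf]; exact hmem)] at h1
        rw [hχ1]
        exact h1
      have hR' := commutator_mem_ker_of_selfNormalizing p R P hPR hself χ hdegχ hker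
      have hRK : (⁅R, R⁆ : Subgroup G) ≤ Helper80.kerChar (χ : G → ℂ) hχc :=
        Subgroup.commutator_le.2 fun a ha b hb => by
          rw [commutatorElement_def, Helper80.mem_kerChar hχc]
          exact hR' a ha b hb
      have h2 := (Helper80.mem_kerChar hχc u).1 (hRK huR)
      apply hne
      rw [← hχ ⟨u, hPN huP⟩, ← hχ1]
      exact h2
    -- Step 3
    obtain ⟨K, hKn, hKR, hKP, hfac⟩ := exists_normal_of_hasNormalPComplement p R P hPR
      (hasNormalPComplement_of_focal p R P hPR hfoc)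
    refine ⟨K, hKn, ?_, ?_⟩
    · rw [eq_top_iff]
      intro g _
      have hfr : N ⊔ R = ⊤ := Sylow.normalizer_sup_eq_top' P hPR
      have hg : g ∈ N ⊔ R := by rw [hfr]; trivial
      have hg' : g ∈ (N : Set G) * (R : Set G) := by
        rw [← Subgroup.mul_normal]
        exact hg
      obtain ⟨n, hn, r, hr, rfl⟩ := Set.mem_mul.1 hg'
      obtain ⟨k, hk, u, hu, rfl⟩ := hfac r hr
      have h1 : n * (k * u) = (n * k * n⁻¹) * (n * u) := by group
      rw [h1]
      exact Subgroup.mul_mem_sup (hKn.conj_mem k hk n) (N.mul_mem hn (hPN hu))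
    · rw [eq_bot_iff]
      intro x hx
      have hxP : x ∈ (P : Subgroup G) := hself x (hKR hx.1) hx.2
      have : x ∈ K ⊓ (P : Subgroup G) := ⟨hx.1, hxP⟩
      rw [hKP] at this
      exact this
  · rintro ⟨K, hKn, hsup, hinf⟩ θ _
    haveI := hKn
    exact exists_extension_of_normal_complement _ K hsup hinf θ

end G

end Cfsg.Agent.Helper78.NC
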