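import Cfsg.Agent.Helper60.NCINFL
import Cfsg.Agent.Helper2.NCNPC
import Cfsg.Agent.Helper76.NCF8
import Cfsg.Agent.Helper76.NCSEP
import Cfsg.Agent.Helper32.NCTATE
import Cfsg.Agent.Helper32.NCSELFN
import Cfsg.Agent.Helper93.NCORB
import Cfsg.Agent.Helper78.NC.Burn
import Cfsg.Agent.Helper75.OnePDivA
import Cfsg.Agent.Helper50.HSubgroup
import Cfsg.Agent.S0086
import Cfsg.Agent.Helper74.Ito
import Cfsg.Agent.Helper16.Quotient
import Cfsg.Agent.Helper74.CharComplete
import Cfsg.Agent.Helper80.CharLevel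
import Cfsg.Agent.Helper80.Pullback

/-!
# S4931 (helper78): the pieces of WANTED #9400, collected in one namespace

(SEP), (F8) helper76; (ORB) helper93; (NPC) helper2; (TATE), (SELFN) helper32; (INFL) helper60;
(BURN) helper78 (`Cfsg.Agent.Helper78.NC.Burn`).
-/

set_option autoImplicit false

namespace Cfsg.Agent.Helper78.NC

open Cfsg
open scoped ComplexConjugate

universe u

/-- (SEP) separation of an element outside `Q` by an irreducible character of `p'`-degree that is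
trivial on `Q`, when `A / Q` is an abelian normal subgroup of `p'`-index. -/
theorem exists_irr_sep {N₀ : Type u} [Group N₀] [Fintype N₀] (p : ℕ) [Fact p.Prime]
    (Q A : Subgroup N₀) [Q.Normal] [A.Normal] (hQA : Q ≤ A)
    (hab : ∀ a ∈ A, ∀ b ∈ A, a * b * a⁻¹ * b⁻¹ ∈ Q) (hidx : ¬ p ∣ A.index) (x : N₀)
    (hx : x ∉ Q) :
    ∃ θ : IrrCharacter N₀, ¬ p ∣ charDegree (θ : N₀ → ℂ) ∧
      (∀ q ∈ Q, (θ : N₀ → ℂ) q = (θ : N₀ → ℂ) 1) ∧ (θ : N₀ → ℂ) x ≠ (θ : N₀ → ℂ) 1 :=
  Helper76.NC.exists_irr_sep p Q A hQA hab hidx x hx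

/-- (ORB) orbit counting for a `p`-group acting on a finite set with a single fixed point. -/
theorem sum_ne_zero_of_isPGroup_smul {p : ℕ} [Fact p.Prime] {U : Type*} [Group U] [Finite U]
    (hU : IsPGroup p U) {X : Type*} [Fintype X] [MulAction U X] (f : X → ℂ)
    (hf : ∀ (u : U) (x : X), f (u • x) = f x) (hint : ∀ x, IsIntegral ℤ (f x)) (x₀ : X)
    (hx₀ : ∀ u : U, u • x₀ = x₀)
    (hfix : ∀ x : X, (∀ u : U, u • x = x) → x = x₀) (n : ℕ) (hn : f x₀ = (n : ℂ))
    (hpn : ¬ p ∣ n) : ∑ x : X, f x ≠ 0 :=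
  Helper93.NC.sum_ne_zero_of_isPGroup_smul hU f hf hint x₀ hx₀ hfix n hn hpn

section G

variable {G : Type u} [Group G] [Fintype G]

/-- (F8) a normal subgroup on which an irreducible character has nonzero sum lies in its
kernel. -/
theorem apply_eq_of_sum_ne_zero (K : Subgroup G) [K.Normal] [Fintype K] (χ : IrrCharacter G)
    (h : ∑ k : K, (χ : G → ℂ) (k : G) ≠ 0) : ∀ k ∈ K, (χ : G → ℂ) k = (χ : G → ℂ) 1 :=
  Helper76.NC.apply_eq_of_sum_ne_zero K χ h

/-- (NPC) a normal `p`-complement of a normal subgroup `R ⊇ P` is normal in `G`. -/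
theorem exists_normal_of_hasNormalPComplement (p : ℕ) [Fact p.Prime] (R : Subgroup G) [R.Normal]
    (P : Sylow p G) (hPR : (P : Subgroup G) ≤ R) (h : HasNormalPComplement p ↥R) :
    ∃ K : Subgroup G, K.Normal ∧ K ≤ R ∧ K ⊓ (P : Subgroup G) = ⊥ ∧
      ∀ r ∈ R, ∃ k ∈ K, ∃ u ∈ (P : Subgroup G), r = k * u :=
  Helper2.NC.exists_normal_of_hasNormalPComplement p R P hPR h

/-- (TATE) Tate's theorem in focal form inside the normal subgroup `R`. -/
theorem hasNormalPComplement_of_focal (p : ℕ) [Fact p.Prime] (R : Subgroup G)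
    (P : Sylow p G) (hPR : (P : Subgroup G) ≤ R)
    (hfoc : ∀ u ∈ (P : Subgroup G), u ∈ ⁅R, R⁆ → u ∈ ⁅(P : Subgroup G), (P : Subgroup G)⁆) :
    HasNormalPComplement p ↥R :=
  Helper32.NC.hasNormalPComplement_of_focal p R P hPR hfoc

/-- (SELFN) a self-normalizing Sylow subgroup of `R` stays self-normalizing modulo `M`. -/
theorem mem_sup_of_mk_mem_normalizer (p : ℕ) [Fact p.Prime] (R M : Subgroup G) [M.Normal]
    (hMR : M ≤ R) (P : Sylow p G) (hPR : (P : Subgroup G) ≤ R)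
    (hself : ∀ r ∈ R, r ∈ Subgroup.normalizer ((P : Subgroup G) : Set G) → r ∈ (P : Subgroup G))
    (r : G) (hr : r ∈ R)
    (hn : QuotientGroup.mk' M r ∈ Subgroup.normalizer
      ((((P : Subgroup G).map (QuotientGroup.mk' M) : Subgroup (G ⧸ M))) : Set (G ⧸ M))) :
    r ∈ (P : Subgroup G) ⊔ M :=
  Helper32.NC.mem_sup_of_mk_mem_normalizer p R M hMR P hPR hself r hr hn

/-- (INFL) characters of a subgroup with a normal complement extend. -/
theorem exists_extension_of_normal_complement (N K : Subgroup G) [K.Normal] (hsup : K ⊔ N = ⊤)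
    (hinf : K ⊓ N = ⊥) (θ : IrrCharacter ↥N) :
    ∃ χ : IrrCharacter G, ∀ x : ↥N, (χ : G → ℂ) x = (θ : ↥N → ℂ) x :=
  Helper60.NC.exists_extension_of_normal_complement N K hsup hinf θ

end G

end Cfsg.Agent.Helper78.NC
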